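/- The matrices satisfy the relators of the presented Thompson group. -/
import Cfsg.Agent.SPOR.Th.MatData
set_option autoImplicit false
set_option maxRecDepth 100000
set_option Elab.async false
namespace CL.Th
open CL.K CL.CE CL.PM

/-- inverses of the letters -/
def ivl : List ℕ := [0,1,2,3,4,6,5,8,7,10,9]

/-- inverses of the letters -/
def iv (a : ℕ) : ℕ := ivl.getD a a

/-- the relators -/
def Rels : List (List ℕ) := [[0,1,0,1,0,1], [0,4,0,4], [1,2,1,2,1,2], [1,3,1,3], [1,4,1,4], [0,3,2,3,2,3,2,3,2], [2,4,2,4], [3,4,3,4,3,4], [1,2,3,4,1,2,3,4,1,2,3,4,1,2,3,4,1,2,3,4,1,2,3,4,1,2,3,4,1,2,3,4], [5,5,5,5,5,5,5], [6,0,5,0], [6,1,5,1], [6,2,5,2], [5,3,5,3], [4,6,4,5,6,6,6,4,5,5,5], [7,7,7], [8,0,7,0], [8,1,7,1], [8,2,7,2], [8,3,7,3], [8,4,7,4], [8,5,7,6,6], [9,9,2,0], [10,0,9,0], [10,2,9,2], [10,4,9,4], [3,4,10,3,9,3,4,10,3,9], [10,1,2,0,1,9,1,0,2,1,4], [3,10,3,1,2,0,1,3,9,3,1,0,2,1,2,4,3,10,3,1,2,0,1,4,10], [10,7,9,7], [4,6,6,10,5,5,4,6,6,9,5,5],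 [0,2,6,10,6,10,6,10], [0,2,6,10,5,9,6,10,5,9,6,10,5,9,6,10,5,9], [3,6,6,9,5,5,3,6,6,9,5,5,3,6,6,9,5,5,3,6,6,9,5,5,6,6,4,3,2,3,4,5,5,5,4,3,2,3,4,6,3,2,3,2,0]]

theorem ok : OK 3 248 20 1048575 4960 (repC 4960 248 1048575) (Nat.pred (Nat.pow 2 4960)) 683 11 (repC 20 61504 511)
    992 :=
  ⟨by decide, by decide, by decide, by decide, by decide +kernel, repC_eq (by decide) _ _, by decide,
    repC_eq (by decide) _ _, by decide, by decide, by decide, by decide, fun x hx => Nat.eq_of_beq_eq_true (allLt_iff.1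
      (show allLt (fun x => Nat.beq (Nat.shiftRight (x * 683) 11) (x / 3)) 993 = true by decide +kernel) x (by omega))⟩

theorem cs_ok : cs.all (isCode' 3 248 20 683 11 (repC 20 61504 511)) = true := by decide +kernel

/-- check of word identities between the matrices -/
noncomputable def chk (es : List (List ℕ × List ℕ)) : Bool :=
  force (repC 4960 248 1048575) fun CM => force (repC 20 61504 511) fun QM => force (Nat.pred (Nat.pow 2 4960)) fun RM =>
    eqsOK (mulC 3 248 20 4960 CM RM 683 11 QM) (oneC 248 20) cs es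

theorem eqs {es : List (List ℕ × List ℕ)} (h : chk es = true) :
    ∀ e ∈ es, (e.1.map (mats 3 248 20 1048575 cs)).prod = (e.2.map (mats 3 248 20 1048575 cs)).prod :=
  ok.eqs (by decide) (by decide) cs_ok (by simpa only [chk, force_eq] using h)

theorem mats_inv (a : ℕ) : mats 3 248 20 1048575 cs a * mats 3 248 20 1048575 cs (iv a) = 1 :=
  inv_of_eqs (by decide +kernel) (eqs (by decide +kernel)) a

/-- the generators in `GL₂₄₈(3)` -/
noncomputable def gM : ℕ → GL (Fin 248) (ZMod 3) := gls 3 248 20 1048575 cs iv mats_inv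

def es0 : List (List ℕ × List ℕ) := [([0,1,0], [1,0,1]), ([0,4], [4,0])]
theorem chk0 : chk es0 = true := by decide +kernel
def es1 : List (List ℕ × List ℕ) := [([1,2,1], [2,1,2]), ([1,3], [3,1]), ([1,4], [4,1])]
theorem chk1 : chk es1 = true := by decide +kernel
def es2 : List (List ℕ × List ℕ) := [([0,3,2,3,2], [2,3,2,3])]
theorem chk2 : chk es2 = true := by decide +kernel
def es3 : List (List ℕ × List ℕ) := [([2,4], [4,2]), ([3,4,3], [4,3,4])]
theorem chk3 : chk es3 = true := by decide +kernel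
def es4 : List (List ℕ × List ℕ) := [([1,2,3,4,1,2,3,4,1,2,3,4,1,2,3,4], [4,3,2,1,4,3,2,1,4,3,2,1,4,3,2,1])]
theorem chk4 : chk es4 = true := by decide +kernel
def es5 : List (List ℕ × List ℕ) := [([5,5,5,5], [6,6,6]), ([6,0], [0,6])]
theorem chk5 : chk es5 = true := by decide +kernel
def es6 : List (List ℕ × List ℕ) := [([6,1], [1,6]), ([6,2], [2,6]), ([5,3], [3,6])]
theorem chk6 : chk es6 = true := by decide +kernel
def es7 : List (List ℕ × List ℕ) := [([4,6,4,5,6,6], [6,6,6,4,5])]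
theorem chk7 : chk es7 = true := by decide +kernel
def es8 : List (List ℕ × List ℕ) := [([7,7], [8]), ([8,0], [0,8]), ([8,1], [1,8]), ([8,2], [2,8])]
theorem chk8 : chk es8 = true := by decide +kernel
def es9 : List (List ℕ × List ℕ) := [([8,3], [3,8]), ([8,4], [4,8]), ([8,5,7], [5,5])]
theorem chk9 : chk es9 = true := by decide +kernel
def es10 : List (List ℕ × List ℕ) := [([9,9], [0,2]), ([10,0], [0,10]), ([10,2], [2,10]), ([10,4], [4,10])]
theorem chk10 : chk es10 = true := by decide +kernel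
def es11 : List (List ℕ × List ℕ) := [([3,4,10,3,9], [10,3,9,4,3])]
theorem chk11 : chk es11 = true := by decide +kernel
def es12 : List (List ℕ × List ℕ) := [([10,1,2,0,1,9], [4,1,2,0,1])]
theorem chk12 : chk es12 = true := by decide +kernel
def es13 : List (List ℕ × List ℕ) := [([3,10,3,1,2,0,1,3,9,3,1,0,2], [9,4,1,0,2,1,3,9,3,4,2,1])]
theorem chk13 : chk es13 = true := by decide +kernel
def es14 : List (List ℕ × List ℕ) := [([10,7], [8,10])]
theorem chk14 : chk es14 = true := by decide +kernel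
def es15 : List (List ℕ × List ℕ) := [([4,6,6,10,5,5], [6,6,10,5,5,4])]
theorem chk15 : chk es15 = true := by decide +kernel
def es16 : List (List ℕ × List ℕ) := [([0,2,6,10], [9,5,9,5])]
theorem chk16 : chk es16 = true := by decide +kernel
def es17 : List (List ℕ × List ℕ) := [([0,2,6,10,5,9,6,10,5], [10,6,9,5,10,6,9,5,10])]
theorem chk17 : chk es17 = true := by decide +kernel
def es18 : List (List ℕ × List ℕ) := [([3,6,6,9,5,5,3,6,6,9,5,5,3,6,6,9,5,5,3,6,6,9,5], [0,2,3,2,3,5,4,3,2,3,4,6,6,6,4,3,2,3,4,5,5,6])]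
theorem chk18 : chk es18 = true := by decide +kernel

theorem presM : Pres gM iv Rels :=
  pres_gls mats_inv (es := es0 ++ es1 ++ es2 ++ es3 ++ es4 ++ es5 ++ es6 ++ es7 ++ es8 ++ es9 ++ es10 ++ es11 ++ es12 ++ es13 ++ es14 ++ es15 ++ es16 ++ es17 ++ es18) (by
    simp only [List.forall_mem_append]
    exact ⟨⟨⟨⟨⟨⟨⟨⟨⟨⟨⟨⟨⟨⟨⟨⟨⟨⟨eqs chk0, eqs chk1⟩, eqs chk2⟩, eqs chk3⟩, eqs chk4⟩, eqs chk5⟩, eqs chk6⟩, eqs chk7⟩, eqs chk8⟩, eqs chk9⟩, eqs chk10⟩, eqs chk11⟩, eqs chk12⟩, eqs chk13⟩, eqs chk14⟩, eqs chk15⟩, eqs chk16⟩, eqs chk17⟩, eqs chk18⟩) (by decide +kernel)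

end CL.Th
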