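/- The subgroup `³D₄(2)` of the presented Thompson group is simple (generated). -/
import Cfsg.Agent.SPOR.ThG
set_option autoImplicit false
set_option Elab.async false
set_option maxRecDepth 100000
set_option exponentiation.threshold 1000

namespace CL.Th.E3
open CL.CE CL.K

noncomputable def tT0 : ℕ := nat_lit 0x116066c57ad56a53924ad3b5cb562b54be4270c142030404
noncomputable def tJ0 : ℕ := nat_lit 0x1595599aa81fff
noncomputable def tD0 : ℕ := nat_lit 0x808407000
noncomputable def tT : Tr := (.leaf tT0)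
noncomputable def tJ : Tr := (.leaf tJ0)
noncomputable def tD : Tr := (.leaf tD0)

def rels : List (List ℕ) := [[0,0],
  [1,1],
  [2,2],
  [3,3],
  [4,4],
  [5,6],
  [6,5],
  [7,8],
  [8,7],
  [0,1,0,1,0,1],
  [0,4,0,4],
  [1,2,1,2,1,2],
  [1,3,1,3],
  [1,4,1,4],
  [0,3,2,3,2,3,2,3,2],
  [2,4,2,4],
  [3,4,3,4,3,4],
  [1,2,3,4,1,2,3,4,1,2,3,4,1,2,3,4,1,2,3,4,1,2,3,4,1,2,3,4,1,2,3,4],
  [5,5,5,5,5,5,5],
  [6,0,5,0],
  [6,1,5,1],
  [6,2,5,2],
  [5,3,5,3],
  [4,6,4,6,6,4,5,5,5],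
  [7,7,7],
  [8,0,7,0],
  [8,1,7,1],
  [8,2,7,2],
  [8,3,7,3],
  [8,4,7,4],
  [8,5,7,6,6]]
def subs : List (List ℕ) := [[0],
  [1],
  [2],
  [3],
  [4],
  [5]]
def iv (a : ℕ) : ℕ := [0,1,2,3,4,6,5,8,7,9].getD a 0
noncomputable def RR0 : List Rule := [.bwd [7,0,8] 25 1 0,
  .bwd [8,0,7] 25 3 0,
  .sub [] [] 0 0]
noncomputable def RR1 : List Rule := [.bwd [7,1,8] 26 1 0,
  .bwd [8,1,7] 26 3 0,
  .sub [] [] 1 0]
noncomputable def RR2 : List Rule := [.bwd [7,2,8] 27 1 0,
  .bwd [8,2,7] 27 3 0,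
  .sub [] [] 2 0]
noncomputable def RR3 : List Rule := [.bwd [7,3,8] 28 1 0,
  .bwd [8,3,7] 28 3 0,
  .sub [] [] 3 0]
noncomputable def RR4 : List Rule := [.bwd [7,4,8] 29 1 0,
  .bwd [8,4,7] 29 3 0,
  .sub [] [] 4 0]
noncomputable def RR5 : List Rule := [.bwd [6] 5 0 0,
  .bwd [7,6,6,8] 30 1 0,
  .sub [] [] 5 0]
noncomputable def RR6 : List Rule := [.bwd [5] 6 0 0,
  .bwd [7,5,5,8] 30 3 1]
noncomputable def RR7 : List Rule := [.bwd [8] 7 0 0]
noncomputable def RR8 : List Rule := [.bwd [8,8] 24 1 1,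
  .bwd [7] 8 0 0]
noncomputable def RR : List (List Rule) := [RR0, RR1, RR2, RR3, RR4, RR5, RR6, RR7, RR8]
noncomputable def rowp (j : ℕ) : ℕ := piece tT (nat_lit 3) (nat_lit 7) (nat_lit 4032) (Nat.pred (Nat.shiftLeft 1 (nat_lit 4032))) j
noncomputable def row (u : ℕ) : ℕ := rowOf rowp (nat_lit 6) (nat_lit 63) (nat_lit 63) u
noncomputable def jrowp (j : ℕ) : ℕ := piece tJ (nat_lit 3) (nat_lit 7) (nat_lit 2304) (Nat.pred (Nat.shiftLeft 1 (nat_lit 2304))) j
noncomputable def jrow (u : ℕ) : ℕ := rowOf jrowp (nat_lit 7) (nat_lit 127) (nat_lit 18) u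
noncomputable def drowp (j : ℕ) : ℕ := piece tD (nat_lit 3) (nat_lit 7) (nat_lit 3072) (Nat.pred (Nat.shiftLeft 1 (nat_lit 3072))) j
noncomputable def drow (u : ℕ) : ℕ := rowOf drowp (nat_lit 8) (nat_lit 255) (nat_lit 12) u
noncomputable def cert : PCert := ⟨(nat_lit 9), (nat_lit 9), (nat_lit 3), (nat_lit 7), (nat_lit 127), (nat_lit 126), (nat_lit 3), (nat_lit 2), (nat_lit 2), (nat_lit 2), (nat_lit 3), (nat_lit 2), (nat_lit 3), (nat_lit 4095), (nat_lit 0), row, jrow, drow, RR⟩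
theorem params : cert.paramsOK = true := by decide +kernel
theorem rules : rulesOK rels subs iv cert.L cert.LL cert.RR = true := by decide +kernel
theorem blk0 : cert.alive (nat_lit 0) (nat_lit 1) (nat_lit 3) = 0 := by decide +kernel
theorem up0 : cert.Upto 0 := PCert.upto_zero _
theorem up1 : cert.Upto 3 := up0.alive params blk0 (by decide)

theorem covers {G : Type*} [Group G] {g : ℕ → G} {H : Subgroup G}
    (h : Sat g H 9 iv rels subs) : Covers g 9 H 3 :=
  PCert.covers (p := cert) params rules (by decide +kernel) up1 h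

end CL.Th.E3

namespace CL.Th
open CL.CE CL.K CL.Net CL.ThG

noncomputable def netsL : List (List (ℕ × ℕ)) := [X.n0, X.n1, X.n2, X.n3, X.n4, X.n5, X.n6]
theorem validL : Valid 896 netsL := (((((((valid_nil _).cons X.v6).cons X.v5).cons X.v4).cons X.v3).cons X.v2).cons X.v1).cons X.v0
def usL : List (List ℕ × ℕ) := [([2,4,3,1,2,1,4,6,1,4,3], 0), ([4,0,3,2,5,1], 3), ([4,6,1,2,3,0], 5)]
def RelsL : List (List ℕ) := [[0,0], [1,1], [2,2], [3,3], [4,4], [5,6], [6,5], [0,1,0,1,0,1], [0,4,0,4], [1,2,1,2,1,2], [1,3,1,3], [1,4,1,4], [0,3,2,3,2,3,2,3,2], [2,4,2,4], [3,4,3,4,3,4], [1,2,3,4,1,2,3,4,1,2,3,4,1,2,3,4,1,2,3,4,1,2,3,4,1,2,3,4,1,2,3,4], [5,5,5,5,5,5,5], [6,0,5,0], [6,1,5,1], [6,2,5,2], [5,3,5,3], [4,6,4,6,6,4,5,5,5]] ++ (usL.map fun u => wpow u.1 13) ++ usL.map fun u => wpow (u.1 ++ [u.2]) 13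
theorem relqL_0_0 : chkPlanes netsL 896 10 (relEqs RelsL) 0 3 = true := by decide +kernel
theorem relqL_0_1 : chkPlanes netsL 896 10 (relEqs RelsL) 3 3 = true := by decide +kernel
theorem relqL_0_2 : chkPlanes netsL 896 10 (relEqs RelsL) 6 3 = true := by decide +kernel
theorem relqL_0_3 : chkPlanes netsL 896 10 (relEqs RelsL) 9 1 = true := by decide +kernel
theorem relqL : ∀ e ∈ (relEqs RelsL), ev (sigma netsL) e.1 = ev (sigma netsL) e.2 :=
  (validL.eq_of_planes (by norm_num) (((((uptoPlane_zero 10 (relEqs RelsL)).step relqL_0_0 rfl).step relqL_0_1 rfl).step relqL_0_2 rfl).step relqL_0_3 rfl))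
def hsL : List (List ℕ) := [[0], [2], [3], [4], [5], [6]]
def repsL : List (List ℕ × ℕ) := [([1], 100), ([1,2,0,1], 791), ([1,2,3,2,1], 294)]
theorem maxL : maxOK netsL hsL 5 819 repsL = true := by decide +kernel
theorem transL : Nat.beq (bfs netsL (ltrs 7) 5 1) (Nat.pred (Nat.pow 2 819)) = true := by decide +kernel

/-- the subgroup `³D₄(2)` of the model of `³D₄(2):3` -/
noncomputable abbrev LA : Subgroup X.A := gen X.gA (ltrs 7)

/-- its letters -/
noncomputable abbrev gL : ℕ → LA := inGen X.gA (ltrs 7)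

theorem liftL : Lift (X.π.comp LA.subtype) gL netsL := fun a => by
  show X.π (subst X.gA (ltrs 7) a) = _
  by_cases ha : a < 7
  · rw [subst_ltrs_of_lt _ ha, X.liftA a]
    exact sigma_append (n₁ := netsL) (n₂ := [X.n7, X.n8]) ha
  · rw [sigma_of_le (show netsL.length ≤ a from not_lt.1 ha), subst,
      List.getD_eq_default _ _ (by simpa [ltrs] using ha), ev_nil, map_one]

theorem topL : gen gL (ltrs 7) = ⊤ :=
  gen_inGen _ _ (gen_le_of_among X.presA.inv (by decide +kernel))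

theorem modelL : Model (X.π.comp LA.subtype) ((gen X.gA X.hs).subgroupOf LA) 819 := by
  refine X.modelA.1.subgroup LA fun q hq => ?_
  have h := validL.bfs_subset_orbit (liftL.map_gen (ltrs 7)).ge 5 0
  rw [show bfs netsL (ltrs 7) 5 (2 ^ 0) = _ from Nat.eq_of_beq_eq_true transL,
    show bits (Nat.pred (Nat.pow 2 819)) = Set.Iio 819 from bits_two_pow_sub_one 819] at h
  obtain ⟨⟨_, x, hx, rfl⟩, e⟩ := h hq
  exact ⟨x, x.2, e⟩

theorem presL : Pres gL (fun a => [0,1,2,3,4,6,5].getD a a) RelsL :=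
  Pres.of_injective _ modelL.inj (by
    rw [show (fun a => (X.π.comp LA.subtype) (gL a)) = sigma netsL from funext liftL]
    exact pres_of_rel (rel_of_eqs relqL) (by decide +kernel))

theorem coatomL : IsCoatom ((gen X.gA X.hs).subgroupOf LA) :=
  modelL.isCoatom validL liftL (hs := hsL) (by
    rw [← Subgroup.map_subtype_le_map_subtype, map_gen_inGen, Subgroup.subgroupOf_map_subtype]
    exact le_inf (gen_le_of_among X.presA.inv (by decide +kernel))
      (gen_le_of_among X.presA.inv (by decide +kernel))) maxL (by norm_num)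

theorem idx3 {G : Type*} [Group G] {g : ℕ → G} (h : Pres g ivH RelsH) :
    IdxLe (gen g (ltrs 7)) (gen g (ltrs 9)) 3 :=
  h.idxLe _ _ E3.covers (by decide +kernel)

/-- the letters in the quotient of order three -/
def chi (a : ℕ) : Multiplicative (ZMod 3) :=
  Multiplicative.ofAdd ([0, 0, 0, 0, 0, 0, 0, 1, 2].getD a 0)

theorem pres_chi : Pres chi ivH RelsH := by
  refine ⟨fun a => ?_, by decide +kernel⟩
  by_cases ha : a < 9
  · revert a; decide
  · simp only [ivH, chi]
    rw [List.getD_eq_default _ a (by simpa using ha), List.getD_eq_default _ _ (by simpa using ha)]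
    rfl

theorem index_LA : LA.index = 3 := by
  obtain ⟨f, h1, -⟩ := exists_psi X.presA X.topA pres_chi (by decide +kernel) le_H X.cardA.ge
  have h2 := idx3 X.presA
  rw [IdxLe, X.topA, Subgroup.relIndex_top_right] at h2
  have h3 : LA ≤ f.ker := gen_le_iff.2 fun w hw => by
    obtain ⟨a, ha, rfl⟩ := mem_ltrs.1 hw
    rw [MonoidHom.mem_ker, ev_singleton, h1 a (by omega)]
    revert a; decide
  have h4 : orderOf (f (X.gA 7)) = 3 := by
    rw [h1 7 (by norm_num)]
    exact orderOf_eq_prime (by decide) (by decide)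
  have h5 := orderOf_dvd_natCard (⟨f (X.gA 7), _, rfl⟩ : f.range)
  rw [← Subgroup.orderOf_coe, h4, ← Subgroup.index_ker] at h5
  have h6 := Nat.le_of_dvd (Nat.pos_of_ne_zero h2.1) (h5.trans (Subgroup.index_dvd_of_le h3))
  exact le_antisymm h2.2 h6

theorem card_LA : Nat.card LA = 211341312 := by
  have h := LA.index_mul_card
  rw [index_LA, X.cardA] at h
  omega

theorem isSimpleGroup_LA : IsSimpleGroup LA := by
  have h := ((gen X.gA X.hs).subgroupOf LA).index_mul_card
  rw [modelL.index, card_LA] at h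
  exact presL.isSimpleGroup coatomL modelL.normalCore (p := 13)
    (by rw [show Nat.card ((gen X.gA X.hs).subgroupOf LA) = 258048 by omega]; norm_num) topL usL
    [5,7,9,14] (by decide +kernel)

theorem map_gen_of {G G' : Type*} [Group G] [Group G'] {φ : G →* G'} {x : ℕ → G} {y : ℕ → G'}
    {ws : List (List ℕ)} (h : ∀ w ∈ ws, φ (ev x w) = ev y w) : (gen x ws).map φ = gen y ws := by
  rw [map_gen]
  unfold gen
  congr 1
  ext z
  exact exists_congr fun w => and_congr_right fun hw => by rw [← map_ev, h w hw]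

theorem exists_ψX : ∃ f : X.A →* Cfsg.Spor.Th, (∀ a < 9, f (X.gA a) = g a) ∧ f.range = gen g (ltrs 9) :=
  exists_psi X.presA X.topA presG (by decide +kernel) le_H X.cardA.ge

/-- the embedding of the model on 819 points -/
noncomputable def ψX : X.A →* Cfsg.Spor.Th := exists_ψX.choose

theorem ψX_apply : ∀ a < 9, ψX (X.gA a) = g a := exists_ψX.choose_spec.1

theorem ψX_range : ψX.range = ψ.range := exists_ψX.choose_spec.2.trans ψ_range.symm

theorem ψX_injective : Function.Injective ψX := by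
  rw [← MonoidHom.rangeRestrict_injective_iff]
  exact (ψX.rangeRestrict_surjective.bijective_of_nat_card_le
    (by rw [ψX_range, card_range, X.cardA])).1

theorem ψX_ev {w : List ℕ} (h : ltAll 9 w = true) : ψX (ev X.gA w) = ev g w := by
  rw [map_ev]; exact ev_congr fun a ha => ψX_apply a (ltAll_spec h a ha)

theorem ψX_gen {ws : List (List ℕ)} (h : ws.all (ltAll 9) = true) :
    (gen X.gA ws).map ψX = gen g ws :=
  map_gen_of fun w hw => ψX_ev (List.all_eq_true.1 h w hw)

/-- relations of the model on 819 points hold in `Th` -/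
theorem eqs_of_X {es : List (List ℕ × List ℕ)}
    (h : ∀ e ∈ es, ev (sigma X.nets0) e.1 = ev (sigma X.nets0) e.2)
    (hc : (es.all fun e => ltAll 9 e.1 && ltAll 9 e.2) = true) : ∀ e ∈ es, ev g e.1 = ev g e.2 :=
  fun e he => by
    obtain ⟨h1, h2⟩ := Bool.and_eq_true_iff.1 (List.all_eq_true.1 hc e he)
    rw [← ψX_ev h1, ← ψX_ev h2, X.liftA.ev_eq X.modelA.1.inj h e he]

theorem card_gen_X {ws : List (List ℕ)} (h : ws.all (ltAll 9) = true) :
    Nat.card (gen g ws) = Nat.card (gen (sigma X.nets0) ws) := by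
  rw [← ψX_gen h, ← X.liftA.card_gen X.modelA.1.inj]
  exact (Nat.card_congr (Subgroup.equivMapOfInjective _ _ ψX_injective).toEquiv).symm

end CL.Th
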